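import Mathlib

/-!
Jordan's theorem on the degrees of sharply 4-transitive groups.
-/

set_option autoImplicit false
set_option linter.unusedSectionVars false

namespace Cfsg.Agent.Lib.SharplyK

open MulAction Finset

universe u v

variable {G : Type u} [Group G] {α : Type v} [MulAction G α]

/-- No non-identity element fixes `k` points. -/
def IsSharp (G : Type u) [Group G] (α : Type v) [MulAction G α] (k : ℕ) : Prop :=
  ∀ (g : G) (l : List α), l.Nodup → l.length = k → (∀ x ∈ l, g • x = x) → g = 1

theorem exists_move {k : ℕ} (h : IsMultiplyPretransitive G α k) (l l' : List α) (hl : l.Nodup)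
    (hl' : l'.Nodup) (hk : l.length = k) (hk' : l'.length = k) :
    ∃ g : G, l.map (fun x => g • x) = l' := by
  obtain ⟨g, hg⟩ := exists_smul_eq G
    (⟨fun i => l.get (i.cast hk.symm), fun i j hij => by
      simpa using hl.injective_get hij⟩ : Fin k ↪ α)
    (⟨fun i => l'.get (i.cast hk'.symm), fun i j hij => by
      simpa using hl'.injective_get hij⟩ : Fin k ↪ α)
  refine ⟨g, List.ext_getElem (by simp [hk, hk']) fun i h1 h2 => ?_⟩
  have := congrArg (fun e : Fin k ↪ α => e ⟨i, hk' ▸ h2⟩) hg
  simpa [Function.Embedding.smul_apply] using this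

theorem move_four (h : IsMultiplyPretransitive G α 4) {a b c d a' b' c' d' : α}
    (hab : a ≠ b) (hac : a ≠ c) (had : a ≠ d) (hbc : b ≠ c) (hbd : b ≠ d) (hcd : c ≠ d)
    (hab' : a' ≠ b') (hac' : a' ≠ c') (had' : a' ≠ d') (hbc' : b' ≠ c') (hbd' : b' ≠ d')
    (hcd' : c' ≠ d') :
    ∃ g : G, g • a = a' ∧ g • b = b' ∧ g • c = c' ∧ g • d = d' := by
  obtain ⟨g, hg⟩ := exists_move h [a, b, c, d] [a', b', c', d'] (by simp [*]) (by simp [*]) rfl rfl
  simp only [List.map_cons, List.map_nil, List.cons.injEq, and_true] at hg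
  exact ⟨g, hg⟩

theorem IsSharp.eq_one (h : IsSharp G α 4) {g : G} {a b c d : α}
    (hab : a ≠ b) (hac : a ≠ c) (had : a ≠ d) (hbc : b ≠ c) (hbd : b ≠ d) (hcd : c ≠ d)
    (ha : g • a = a) (hb : g • b = b) (hc : g • c = c) (hd : g • d = d) : g = 1 :=
  h g [a, b, c, d] (by simp [*]) rfl (by simp [*])

theorem IsSharp.eq_of_four (h : IsSharp G α 4) {g g' : G} {a b c d : α}
    (hab : a ≠ b) (hac : a ≠ c) (had : a ≠ d) (hbc : b ≠ c) (hbd : b ≠ d) (hcd : c ≠ d)
    (ha : g • a = g' • a) (hb : g • b = g' • b) (hc : g • c = g' • c) (hd : g • d = g' • d) :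
    g = g' := by
  refine (inv_mul_eq_one.mp (h.eq_one hab hac had hbc hbd hcd ?_ ?_ ?_ ?_)).symm <;>
    simp [mul_smul, *]

theorem IsSharp.eq_one_of_card {k : ℕ} (h : IsSharp G α k) {g : G} {s : Finset α}
    (hs : k ≤ s.card) (hfix : ∀ x ∈ s, g • x = x) : g = 1 := by
  obtain ⟨t, hts, ht⟩ := Finset.exists_subset_card_eq hs
  exact h g t.toList t.nodup_toList (by simp [ht]) fun x hx => hfix x (hts (Finset.mem_toList.mp hx))

section
variable [Fintype α] [DecidableEq α]

theorem card_fix_le (h : IsSharp G α 4) {g : G} (hg : g ≠ 1) :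
    (univ.filter fun x : α => g • x = x).card ≤ 3 := by
  by_contra hc
  exact hg (h.eq_one_of_card (Nat.lt_of_not_le hc) fun x hx => (Finset.mem_filter.mp hx).2)

theorem card_fix_modEq {p : ℕ} [Fact p.Prime] {g : G} (hg : g ^ p = 1) :
    (univ.filter fun x : α => g • x = x).card ≡ Fintype.card α [MOD p] := by
  have hσ : MulAction.toPermHom G α g ^ p ^ 1 = 1 := by rw [pow_one, ← map_pow, hg, map_one]
  have := Equiv.Perm.card_compl_support_modEq hσ
  convert this using 2
  ext x
  simp [MulAction.toPermHom_apply]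

variable (h4 : IsMultiplyPretransitive G α 4) (hs : IsSharp G α 4)
include h4 hs

/-- An involution interchanging two points and fixing two others. -/
theorem exists_swap {a b c d : α} (hab : a ≠ b) (hac : a ≠ c) (had : a ≠ d) (hbc : b ≠ c)
    (hbd : b ≠ d) (hcd : c ≠ d) :
    ∃ u : G, u • a = b ∧ u • b = a ∧ u • c = c ∧ u • d = d ∧ u * u = 1 := by
  obtain ⟨u, ha, hb, hc, hd⟩ := move_four h4 hab hac had hbc hbd hcd hab.symm hbc hbd hac had hcd
  refine ⟨u, ha, hb, hc, hd, hs.eq_one hab hac had hbc hbd hcd ?_ ?_ ?_ ?_⟩ <;> simp [mul_smul, *]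

/-- The degree is at most six if it is even, and at most eleven if it is odd. -/
theorem degree_bound (hn : 4 ≤ Fintype.card α) :
    (Even (Fintype.card α) → Fintype.card α ≤ 6) ∧ Fintype.card α ≤ 11 := by
  classical
  obtain ⟨p, q, r, hpq, hpr, hqr⟩ := Fintype.two_lt_card_iff.mp (show 2 < Fintype.card α by omega)
  obtain ⟨r', hr'⟩ : ∃ r', r' ∉ ({p, q, r} : Finset α) := by
    by_contra hcon
    push Not at hcon
    have := Finset.card_le_card (fun x _ => hcon x : (univ : Finset α) ⊆ {p, q, r})
    have := Finset.card_le_three (a := p) (b := q) (c := r)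
    rw [Finset.card_univ] at *
    omega
  simp only [Finset.mem_insert, Finset.mem_singleton, not_or] at hr'
  obtain ⟨hr'p, hr'q, hr'r⟩ := hr'
  obtain ⟨s, hsr, hsr', hsp, hsq, hss⟩ :=
    exists_swap h4 hs (Ne.symm hr'r) hpr.symm hqr.symm hr'p hr'q hpq
  have hs1 : s ≠ 1 := fun e => hr'r (by rw [← hsr, e, one_smul])
  set F := univ.filter fun x : α => s • x = x with hF
  have hFle : F.card ≤ 3 := card_fix_le hs hs1
  have hFmod : F.card % 2 = Fintype.card α % 2 := card_fix_modEq (p := 2) (by rw [pow_two, hss])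
  have hFpq : ({p, q} : Finset α) ⊆ F := by
    intro x hx
    simp only [Finset.mem_insert, Finset.mem_singleton] at hx
    rcases hx with rfl | rfl <;> simp [hF, *]
  have hF2 : 2 ≤ F.card := by
    have := Finset.card_le_card hFpq
    rwa [Finset.card_pair hpq] at this
  have hrF : r ∉ F := by simp [hF, hsr, hr'r]
  have hr'F : r' ∉ F := by simp [hF, hsr', Ne.symm hr'r]
  have hss' : ∀ x : α, s • s • x = x := fun x => by rw [← mul_smul, hss, one_smul]
  set A := univ.filter fun x : α => x ∉ F ∧ x ≠ r ∧ x ≠ r' with hA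
  have hcard : F.card + 2 + A.card = Fintype.card α := by
    have h1 : (F ∪ {r, r'}).card = F.card + 2 := by
      rw [Finset.card_union_of_disjoint (by simp [hrF, hr'F]), Finset.card_pair (Ne.symm hr'r)]
    have h2 : A = (F ∪ {r, r'})ᶜ := by ext x; simp [hA, not_or]; tauto
    rw [h2, ← h1, Finset.card_add_card_compl]
  -- the commuting involutions
  have hu : ∀ a ∈ A, ∃ u : G, u • a = s • a ∧ u • r = r ∧ u • r' = r' ∧ u * u = 1 ∧ u ≠ 1 ∧
      (∀ x : α, s • x = x → s • u • x = u • x) ∧ (∀ x : α, u • x = x → u • s • x = s • x) := by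
    intro a ha
    simp only [hA, Finset.mem_filter, Finset.mem_univ, true_and, hF] at ha
    obtain ⟨ha1, ha2, ha3⟩ := ha
    have hb2 : s • a ≠ r := fun e => ha3 (by rw [← hss' a, e, hsr])
    have hb3 : s • a ≠ r' := fun e => ha2 (by rw [← hss' a, e, hsr'])
    have hne : a ≠ s • a := fun e => ha1 e.symm
    obtain ⟨u, hua, hub, huc, hud, huu⟩ :=
      exists_swap h4 hs hne ha2 ha3 hb2 hb3 (Ne.symm hr'r)
    have hcomm : s * u = u * s := hs.eq_of_four hne ha2 ha3 hb2 hb3 (Ne.symm hr'r)
      (by simp [mul_smul, *]) (by simp [mul_smul, *]) (by simp [mul_smul, *]) (by simp [mul_smul, *])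
    refine ⟨u, hua, huc, hud, huu, fun e => ha1 (by rw [← hua, e, one_smul]), fun x hx => ?_,
      fun x hx => ?_⟩
    · rw [← mul_smul, hcomm, mul_smul, hx]
    · rw [← mul_smul, ← hcomm, mul_smul, hx]
  choose! u hua hur hur' huu hu1 hus hfix using hu
  have huu' : ∀ a ∈ A, ∀ x : α, u a • u a • x = x := fun a ha x => by rw [← mul_smul, huu a ha, one_smul]
  have huF : ∀ a ∈ A, ∀ x ∈ F, u a • x ∈ F := fun a ha x hx => by
    simp only [hF, Finset.mem_filter, Finset.mem_univ, true_and] at hx ⊢
    exact hus a ha x hx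
  -- on the fixed points of `s`
  have hfixle : ∀ a ∈ A, (univ.filter fun x : α => u a • x = x).card ≤ 3 ∧
      (univ.filter fun x : α => u a • x = x).card % 2 = Fintype.card α % 2 := fun a ha =>
    ⟨card_fix_le hs (hu1 a ha), card_fix_modEq (p := 2) (by rw [pow_two, huu a ha])⟩
  have hFfix : ∀ a ∈ A, (F.filter fun x => u a • x = x).card + 2 ≤
      (univ.filter fun x : α => u a • x = x).card := fun a ha => by
    rw [← Finset.card_pair (Ne.symm hr'r), ← Finset.card_union_of_disjoint (by simp [hrF, hr'F])]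
    refine Finset.card_le_card fun x hx => ?_
    simp only [Finset.mem_union, Finset.mem_filter, Finset.mem_insert, Finset.mem_singleton] at hx
    rcases hx with ⟨-, h⟩ | rfl | rfl
    · simpa using h
    · simpa using hur a ha
    · simpa using hur' a ha
  have hkey : ∀ a ∈ A, ∀ a' ∈ A, u a * s ≠ 1 ∧ (u a = u a' → u a • a' = s • a') := fun a ha a' ha' =>
    ⟨fun e => hr'r (by
      have := congrArg (fun g : G => g • r) e
      simpa [mul_smul, hsr, hur' a ha] using this), fun e => by rw [e, hua a' ha']⟩
  -- points on which `u a` agrees with `s`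
  have hagree : ∀ a ∈ A, ∀ S : Finset α, (∀ x ∈ S, s • x ∈ S ∧ u a • x = s • x) → S.card ≤ 3 := by
    intro a ha S hS
    by_contra hc
    refine (hkey a ha a ha).1 (hs.eq_one_of_card (Nat.lt_of_not_le hc) fun x hx => ?_)
    rw [mul_smul, (hS _ (hS x hx).1).2, hss']
  have hsA : ∀ a ∈ A, s • a ∈ A := fun a ha => by
    simp only [hA, hF, Finset.mem_filter, Finset.mem_univ, true_and] at ha ⊢
    refine ⟨fun e => ha.1 ?_, fun e => ha.2.2 ?_, fun e => ha.2.1 ?_⟩
    · exact ((hss' a).symm.trans e).symm
    · rw [← hss' a, e, hsr]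
    · rw [← hss' a, e, hsr']
  constructor
  · intro heven
    have h2 : F.card = 2 := by
      obtain ⟨k, hk⟩ := heven
      omega
    have hFeq : F = {p, q} := (Finset.eq_of_subset_of_card_le hFpq (by rw [h2, Finset.card_pair hpq])).symm
    have hswap : ∀ a ∈ A, u a • p = q ∧ u a • q = p := by
      intro a ha
      have h0 : (F.filter fun x => u a • x = x).card = 0 := by
        have := hFfix a ha; have := hfixle a ha
        obtain ⟨k, hk⟩ := heven
        omega
      rw [Finset.card_eq_zero, Finset.filter_eq_empty_iff] at h0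
      have h1 := huF a ha p (hFpq (by simp))
      have h3 := huF a ha q (hFpq (by simp))
      simp only [hFeq, Finset.mem_insert, Finset.mem_singleton] at h1 h3
      exact ⟨h1.resolve_left (h0 (hFpq (by simp))), h3.resolve_right (h0 (hFpq (by simp)))⟩
    by_contra hc
    obtain ⟨a, ha⟩ : A.Nonempty := Finset.card_pos.mp (by omega)
    have := hagree a ha A fun x hx => ⟨hsA x hx, by
      have he : u a = u x := hs.eq_of_four hpq hpr (Ne.symm hr'p) hqr (Ne.symm hr'q) (Ne.symm hr'r)
        ((hswap a ha).1.trans (hswap x hx).1.symm) ((hswap a ha).2.trans (hswap x hx).2.symm)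
        ((hur a ha).trans (hur x hx).symm) ((hur' a ha).trans (hur' x hx).symm)
      exact (hkey a ha x hx).2 he⟩
    obtain ⟨k, hk⟩ := heven
    omega
  · by_cases hc : Fintype.card α ≤ 6
    · omega
    have hodd : F.card = 3 := by
      by_contra hne
      have h2 : F.card = 2 := by omega
      obtain ⟨a, ha⟩ : A.Nonempty := Finset.card_pos.mp (by omega)
      have hFeq : F = {p, q} :=
        (Finset.eq_of_subset_of_card_le hFpq (by rw [h2, Finset.card_pair hpq])).symm
      have hswap : ∀ a ∈ A, u a • p = q ∧ u a • q = p := by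
        intro a ha
        have h0 : (F.filter fun x => u a • x = x).card = 0 := by
          have := hFfix a ha; have := hfixle a ha
          omega
        rw [Finset.card_eq_zero, Finset.filter_eq_empty_iff] at h0
        have h1 := huF a ha p (hFpq (by simp))
        have h3 := huF a ha q (hFpq (by simp))
        simp only [hFeq, Finset.mem_insert, Finset.mem_singleton] at h1 h3
        exact ⟨h1.resolve_left (h0 (hFpq (by simp))), h3.resolve_right (h0 (hFpq (by simp)))⟩
      have := hagree a ha A fun x hx => ⟨hsA x hx, by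
        have he : u a = u x := hs.eq_of_four hpq hpr (Ne.symm hr'p) hqr (Ne.symm hr'q) (Ne.symm hr'r)
          ((hswap a ha).1.trans (hswap x hx).1.symm) ((hswap a ha).2.trans (hswap x hx).2.symm)
          ((hur a ha).trans (hur x hx).symm) ((hur' a ha).trans (hur' x hx).symm)
        exact (hkey a ha x hx).2 he⟩
      omega
    have hone : ∀ a ∈ A, (F.filter fun x => u a • x = x).card = 1 := by
      intro a ha
      have hsub : (univ.filter fun x : α => u a • x = x) ⊆ (F.filter fun x => u a • x = x) ∪ {r, r'} := by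
        intro x hx
        simp only [Finset.mem_filter, Finset.mem_univ, true_and] at hx
        simp only [Finset.mem_union, Finset.mem_filter, Finset.mem_insert, Finset.mem_singleton]
        by_contra hcon
        push Not at hcon
        obtain ⟨h1, h2, h3⟩ := hcon
        have hxF : s • x ≠ x := fun e => h1 (by simp [hF, e]) hx
        have h5 : s • x ≠ r := fun e => h3 (by rw [← hss' x, e, hsr])
        have h6 : s • x ≠ r' := fun e => h2 (by rw [← hss' x, e, hsr'])
        exact hu1 a ha (hs.eq_one (Ne.symm hr'r) (Ne.symm h2) (Ne.symm h5) (Ne.symm h3) (Ne.symm h6)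
          hxF.symm (hur a ha) (hur' a ha) hx (hfix a ha x hx))
      have h1 := Finset.card_le_card hsub
      have h2 := Finset.card_union_le (F.filter fun x => u a • x = x) {r, r'}
      have h3 : ({r, r'} : Finset α).card = 2 := Finset.card_pair (Ne.symm hr'r)
      have := hFfix a ha; have := hfixle a ha
      omega
    have hf : ∀ a ∈ A, ∃ f ∈ F, u a • f = f ∧ ∀ x ∈ F, x ≠ f → u a • x ≠ x := by
      intro a ha
      obtain ⟨f, hf⟩ := Finset.card_eq_one.mp (hone a ha)
      have hf' : f ∈ F.filter fun x => u a • x = x := hf ▸ Finset.mem_singleton_self f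
      exact ⟨f, (Finset.mem_filter.mp hf').1, (Finset.mem_filter.mp hf').2, fun x hx hne hxx =>
        hne (Finset.mem_singleton.mp (hf ▸ Finset.mem_filter.mpr ⟨hx, hxx⟩))⟩
    choose! f hfF hff hfo using hf
    have hfib : ∀ b ∈ A.image f, (A.filter fun a => f a = b).card ≤ 2 := by
      intro b hb
      obtain ⟨a, ha, rfl⟩ := Finset.mem_image.mp hb
      obtain ⟨g, hg, hgf⟩ := Finset.exists_mem_ne (show 1 < F.card by omega) (f a)
      have hsame : ∀ a' ∈ A, f a' = f a → u a = u a' := by
        intro a' ha' he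
        have hg1 : u a • g ≠ f a := fun e => hgf (by
          have := congrArg (u a • ·) e
          simpa [huu' a ha, hff a ha] using this)
        have hg2 : u a' • g ≠ f a := fun e => hgf (by
          have := congrArg (u a' • ·) e
          rw [← he] at this ⊢
          simpa [huu' a' ha', hff a' ha'] using this)
        have hg3 : u a • g = u a' • g := by
          by_contra hne
          have h1 := hfo a ha g hg hgf
          have h2 := hfo a' ha' g hg (he ▸ hgf)
          have hsub : ({f a, g, u a • g, u a' • g} : Finset α) ⊆ F := by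
            intro z hz
            simp only [Finset.mem_insert, Finset.mem_singleton] at hz
            rcases hz with rfl | rfl | rfl | rfl
            exacts [hfF a ha, hg, huF a ha g hg, huF a' ha' g hg]
          have := Finset.card_le_card hsub
          rw [Finset.card_insert_of_notMem (by simp [hgf.symm, hg1.symm, hg2.symm]),
            Finset.card_eq_three.mpr ⟨_, _, _, h1.symm, h2.symm, hne, rfl⟩, hodd] at this
          omega
        have hrf : r ≠ f a := fun e => hrF (e ▸ hfF a ha)
        have hrg : r ≠ g := fun e => hrF (e ▸ hg)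
        have hr'f : r' ≠ f a := fun e => hr'F (e ▸ hfF a ha)
        have hr'g : r' ≠ g := fun e => hr'F (e ▸ hg)
        exact hs.eq_of_four (Ne.symm hr'r) hrf hrg hr'f hr'g hgf.symm
          ((hur a ha).trans (hur a' ha').symm) ((hur' a ha).trans (hur' a' ha').symm)
          ((hff a ha).trans (by rw [← he]; exact (hff a' ha').symm)) hg3
      have hS := hagree a ha (insert (f a) ((A.filter fun a' => f a' = f a) ∪
        (A.filter fun a' => f a' = f a).image (s • ·))) fun x hx => by
          simp only [Finset.mem_insert, Finset.mem_union, Finset.mem_filter, Finset.mem_image] at hx ⊢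
          rcases hx with rfl | ⟨hxA, hxf⟩ | ⟨y, ⟨hyA, hyf⟩, rfl⟩
          · have : s • f a = f a := (Finset.mem_filter.mp (hfF a ha)).2
            exact ⟨Or.inl this, (hff a ha).trans this.symm⟩
          · exact ⟨Or.inr (Or.inr ⟨x, ⟨hxA, hxf⟩, rfl⟩), (hkey a ha x hxA).2 (hsame x hxA hxf)⟩
          · refine ⟨Or.inr (Or.inl ⟨by rwa [hss'], by rwa [hss']⟩), ?_⟩
            have h1 := (hkey a ha y hyA).2 (hsame y hyA hyf)
            rw [← h1, huu' a ha, h1, hss']
      have hle : ((A.filter fun a' => f a' = f a)).card + 1 ≤ 3 := by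
        refine le_trans ?_ hS
        rw [Finset.card_insert_of_notMem]
        · exact Nat.add_le_add_right (Finset.card_le_card Finset.subset_union_left) 1
        · have hfa := hfF a ha
          simp only [Finset.mem_union, Finset.mem_filter, Finset.mem_image, not_or]
          refine ⟨fun h => (Finset.mem_filter.mp h.1).2.1 hfa, ?_⟩
          rintro ⟨y, hy, hye⟩
          exact (Finset.mem_filter.mp (hsA y hy.1)).2.1 (hye ▸ hfa)
      omega
    have h1 := Finset.card_le_mul_card_image A 2 hfib
    have h2 : (A.image f).card ≤ 3 := hodd ▸ Finset.card_le_card (fun x hx => by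
      obtain ⟨a, ha, rfl⟩ := Finset.mem_image.mp hx
      exact hfF a ha)
    omega

/-- The degree is not `p + 2` for a prime `p ≥ 5`. -/
theorem degree_ne_add_two [Finite G] {p : ℕ} [hp : Fact p.Prime] (hp5 : 5 ≤ p) :
    Fintype.card α ≠ p + 2 := by
  classical
  intro hn
  haveI := Fintype.ofFinite G
  obtain ⟨a, b, hab⟩ := Fintype.exists_pair_of_one_lt_card (show 1 < Fintype.card α by omega)
  set O : Finset α := univ.filter fun x => x ≠ a ∧ x ≠ b with hO
  have hOcard : O.card = p := by
    have : O = ({a, b} : Finset α)ᶜ := by ext x; simp [hO, not_or]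
    rw [this, Finset.card_compl, Finset.card_pair hab, hn]; omega
  have hmemO : ∀ {x}, x ∈ O ↔ x ≠ a ∧ x ≠ b := by simp [hO]
  obtain ⟨c, hc, d, hd, hcd⟩ := Finset.one_lt_card.mp (show 1 < O.card by omega)
  obtain ⟨hca, hcb⟩ := hmemO.mp hc
  obtain ⟨hda, hdb⟩ := hmemO.mp hd
  set T : Finset G := univ.filter fun g => g • a = a ∧ g • b = b with hT
  have hmemT : ∀ {g}, g ∈ T ↔ g • a = a ∧ g • b = b := by simp [hT]
  have hTO : ∀ g ∈ T, ∀ x ∈ O, g • x ∈ O := by
    intro g hg x hx
    obtain ⟨g1, g2⟩ := hmemT.mp hg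
    obtain ⟨x1, x2⟩ := hmemO.mp hx
    exact hmemO.mpr ⟨fun e => x1 (smul_left_cancel g (e.trans g1.symm)),
      fun e => x2 (smul_left_cancel g (e.trans g2.symm))⟩
  have hTcard : T.card = p * p - p := by
    rw [← hOcard, ← Finset.offDiag_card]
    refine Finset.card_bij (fun g _ => (g • c, g • d)) (fun g hg => Finset.mem_offDiag.mpr
      ⟨hTO g hg c hc, hTO g hg d hd, fun e => hcd (smul_left_cancel g e)⟩) ?_ ?_
    · intro g hg g' hg' e
      obtain ⟨g1, g2⟩ := hmemT.mp hg
      obtain ⟨g1', g2'⟩ := hmemT.mp hg'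
      simp only [Prod.mk.injEq] at e
      exact hs.eq_of_four hab hca.symm hda.symm hcb.symm hdb.symm hcd (g1.trans g1'.symm)
        (g2.trans g2'.symm) e.1 e.2
    · rintro ⟨x, y⟩ hxy
      obtain ⟨hx, hy, hne⟩ := Finset.mem_offDiag.mp hxy
      obtain ⟨x1, x2⟩ := hmemO.mp hx
      obtain ⟨y1, y2⟩ := hmemO.mp hy
      obtain ⟨g, h1, h2, h3, h5⟩ := move_four h4 hab hca.symm hda.symm hcb.symm hdb.symm hcd
        hab x1.symm y1.symm x2.symm y2.symm hne
      exact ⟨g, hmemT.mpr ⟨h1, h2⟩, by simp [h3, h5]⟩
  set H : Subgroup G := stabilizer G a ⊓ stabilizer G b with hH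
  have hmemH : ∀ {g}, g ∈ H ↔ g • a = a ∧ g • b = b := by simp [hH, mem_stabilizer_iff]
  have hHcard : Nat.card H = p * (p - 1) := by
    rw [Nat.mul_sub_one, ← hTcard, Nat.card_eq_fintype_card]
    exact Fintype.card_of_subtype T fun g => hmemT.trans hmemH.symm
  obtain ⟨z, hz⟩ := exists_prime_orderOf_dvd_card' (G := H) p (by rw [hHcard]; exact dvd_mul_right p _)
  have hz1 : z ≠ 1 := fun e => by rw [e, orderOf_one] at hz; exact hp.out.ne_one hz.symm
  obtain ⟨hza, hzb⟩ := hmemH.mp z.2
  -- the Sylow subgroup of `H` is normal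
  have hfac : (Nat.card H).factorization p = 1 := by
    rw [hHcard, Nat.factorization_mul hp.out.ne_zero (by omega), Finsupp.add_apply,
      hp.out.factorization_self, Nat.factorization_eq_zero_of_not_dvd]
    intro h
    have := Nat.le_of_dvd (by omega) h
    omega
  have huniq : ∀ y : H, orderOf y = p → y ∈ Subgroup.zpowers z := by
    intro y hy
    have hP : ∀ w : H, orderOf w = p → Nat.card (Subgroup.zpowers w) = p ^ (Nat.card H).factorization p := by
      intro w hw
      rw [Nat.card_zpowers, hw, hfac, pow_one]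
    set P : Sylow p H := Sylow.ofCard (Subgroup.zpowers z) (hP z hz) with hPdef
    set Q : Sylow p H := Sylow.ofCard (Subgroup.zpowers y) (hP y hy) with hQdef
    have hdvd : Nat.card (Sylow p H) ∣ p - 1 := by
      have h1 := P.card_dvd_index
      have h2 := Subgroup.card_mul_index (P : Subgroup H)
      rw [show Nat.card (P : Subgroup H) = p by
        rw [hPdef, Sylow.coe_ofCard, Nat.card_zpowers, hz], hHcard] at h2
      rwa [Nat.eq_of_mul_eq_mul_left hp.out.pos h2] at h1
    have hone : Nat.card (Sylow p H) = 1 := by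
      have h1 := card_sylow_modEq_one p H
      have h2 := Nat.le_of_dvd (by omega) hdvd
      have h3 : Nat.card (Sylow p H) % p = Nat.card (Sylow p H) := Nat.mod_eq_of_lt (by omega)
      rw [Nat.ModEq, h3, Nat.mod_eq_of_lt (by omega : 1 < p)] at h1
      exact h1
    haveI := (Nat.card_eq_one_iff_unique.mp hone).1
    have : (P : Subgroup H) = (Q : Subgroup H) := by rw [Subsingleton.elim P Q]
    rw [hPdef, hQdef, Sylow.coe_ofCard, Sylow.coe_ofCard] at this
    exact this ▸ Subgroup.mem_zpowers y
  -- `z` is transitive on the other points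
  have horb : ∀ x ∈ O, ∃ j : ℕ, (z : G) ^ j • c = x := by
    have hzp : (z : G) ^ p = 1 := by rw [← Subgroup.coe_pow, ← hz, pow_orderOf_eq_one]; rfl
    have hzG : (z : G) ≠ 1 := fun e => hz1 (Subtype.ext e)
    have hzc : (z : G) • c ≠ c := by
      intro e
      have h1 := card_fix_modEq (G := G) (α := α) hzp
      have h2 := card_fix_le hs hzG
      have h3 : ({a, b, c} : Finset α) ⊆ univ.filter fun x => (z : G) • x = x := by
        intro x hx
        simp only [Finset.mem_insert, Finset.mem_singleton] at hx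
        rcases hx with rfl | rfl | rfl <;> simp [hza, hzb, e]
      have h5 := Finset.card_le_card h3
      rw [Finset.card_eq_three.mpr ⟨_, _, _, hab, hca.symm, hcb.symm, rfl⟩] at h5
      rw [hn, Nat.ModEq, Nat.add_mod_left, Nat.mod_eq_of_lt (by omega), Nat.mod_eq_of_lt (by omega)] at h1
      omega
    have hper : Function.minimalPeriod ((z : G) • ·) c = p := by
      refine Function.minimalPeriod_eq_prime (hper := ?_) (hfix := hzc)
      simp [Function.IsPeriodicPt, Function.IsFixedPt, smul_iterate, hzp]
    have himg : (Finset.range p).image (fun j => (z : G) ^ j • c) = O := by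
      refine Finset.eq_of_subset_of_card_le (fun x hx => ?_) ?_
      · obtain ⟨j, -, rfl⟩ := Finset.mem_image.mp hx
        exact hTO _ (hmemT.mpr (hmemH.mp (H.pow_mem z.2 j))) c hc
      · rw [hOcard, Finset.card_image_of_injOn, Finset.card_range]
        intro i hi j hj e
        simp only [Finset.coe_range, Set.mem_Iio] at hi hj
        have e' : ((z : G) • ·)^[i] c = ((z : G) • ·)^[j] c := by simpa [smul_iterate] using e
        exact (Function.iterate_eq_iterate_iff_of_lt_minimalPeriod (hper.symm ▸ hi) (hper.symm ▸ hj)).mp e'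
    intro x hx
    obtain ⟨j, -, hj⟩ := Finset.mem_image.mp (himg ▸ hx)
    exact ⟨j, hj⟩
  have hcent : ∀ g : G, g * z = z * g → g • c = c → ∀ x ∈ O, g • x = x := by
    intro g hg hgc x hx
    obtain ⟨j, rfl⟩ := horb x hx
    rw [← mul_smul, (Commute.pow_right hg j).eq, mul_smul, hgc]
  -- conjugation of `z` by `H` gives all generators
  have hsurj : ∀ y : H, orderOf y = p → ∃ h : H, h * z * h⁻¹ = y := by
    intro y hy
    by_contra hno
    push Not at hno
    have hb1 : ∀ h : H, h * z * h⁻¹ ∈
        ((univ.filter fun w : H => w ∈ Subgroup.zpowers z).erase 1).erase y := fun h => by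
      refine Finset.mem_erase.mpr ⟨hno h, Finset.mem_erase.mpr ⟨fun e => hz1 (by simpa using e),
        Finset.mem_filter.mpr ⟨Finset.mem_univ _, huniq _ ?_⟩⟩⟩
      rw [← hz]; exact orderOf_injective (MulAut.conj h).toMonoidHom (MulAut.conj h).injective z
    have hy1 : y ≠ 1 := fun e => by rw [e, orderOf_one] at hy; exact hp.out.ne_one hy.symm
    have hbc : (((univ.filter fun w : H => w ∈ Subgroup.zpowers z).erase 1).erase y).card = p - 2 := by
      rw [Finset.card_erase_of_mem (Finset.mem_erase.mpr ⟨hy1, by simp [huniq y hy]⟩),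
        Finset.card_erase_of_mem (by simp [one_mem]),
        ← Fintype.card_subtype, ← Nat.card_eq_fintype_card]
      show Nat.card (Subgroup.zpowers z) - 1 - 1 = _
      rw [Nat.card_zpowers, hz]; omega
    have := Finset.card_le_mul_card_image_of_maps_to (s := (univ : Finset H)) (fun h _ => hb1 h) p
      fun w _ => by
        refine (Finset.card_le_card_of_injOn (fun h : H => (h : G) • c) (t := O) (fun h _ => ?_) ?_).trans
          hOcard.le
        · exact hTO _ (hmemT.mpr (hmemH.mp h.2)) c hc
        · intro h hh h' hh' e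
          simp only [Finset.coe_filter, Finset.mem_univ, true_and, Set.mem_setOf_eq] at hh hh'
          have hcm : (h⁻¹ * h') * z = z * (h⁻¹ * h') := by
            have := hh'.trans hh.symm
            calc h⁻¹ * h' * z = h⁻¹ * (h' * z * h'⁻¹) * h' := by group
              _ = h⁻¹ * (h * z * h⁻¹) * h' := by rw [this]
              _ = z * (h⁻¹ * h') := by group
          have hfix := hcent ((h⁻¹ * h' : H) : G) (congrArg Subtype.val hcm) (by
            simp only [Subgroup.coe_mul, Subgroup.coe_inv, mul_smul]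
            simp only at e
            rw [← e, inv_smul_smul])
          have := hs.eq_one_of_card (g := ((h⁻¹ * h' : H) : G)) (by omega : 4 ≤ O.card) hfix
          exact inv_mul_eq_one.mp (Subtype.ext this)
    rw [Finset.card_univ, ← Nat.card_eq_fintype_card, hHcard, hbc] at this
    have := Nat.le_of_mul_le_mul_left this hp.out.pos
    omega
  -- an element interchanging `a` and `b` and centralizing `z`
  obtain ⟨t, hta, htb, htc, htd⟩ := move_four h4 hab hca.symm hda.symm hcb.symm hdb.symm hcd
    hab.symm hcb.symm hdb.symm hca.symm hda.symm hcd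
  have hmem : t * (z : G) * t⁻¹ ∈ H := by
    refine hmemH.mpr ⟨?_, ?_⟩
    · rw [mul_smul, mul_smul, inv_smul_eq_iff.mpr htb.symm, hzb, htb]
    · rw [mul_smul, mul_smul, inv_smul_eq_iff.mpr hta.symm, hza, hta]
  obtain ⟨h, hh⟩ := hsurj ⟨_, hmem⟩ (by
    rw [← Subgroup.orderOf_coe, ← hz, ← Subgroup.orderOf_coe z]
    exact orderOf_injective (MulAut.conj t).toMonoidHom (MulAut.conj t).injective (z : G))
  set g := (h : G)⁻¹ * t with hg
  have hgz : g * z = z * g := by
    have e : (h : G) * z * (h : G)⁻¹ = t * z * t⁻¹ := congrArg Subtype.val hh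
    calc g * z = (h : G)⁻¹ * (t * z * t⁻¹) * t := by rw [hg]; group
      _ = (h : G)⁻¹ * ((h : G) * z * (h : G)⁻¹) * t := by rw [e]
      _ = z * g := by rw [hg]; group
  obtain ⟨h1, h2⟩ := hmemH.mp h.2
  have hga : g • a = b := by rw [hg, mul_smul, hta, inv_smul_eq_iff, h2]
  have hgb : g • b = a := by rw [hg, mul_smul, htb, inv_smul_eq_iff, h1]
  have hgc : g • c ∈ O := hmemO.mpr ⟨fun e => hcb (smul_left_cancel g (e.trans hgb.symm)),
    fun e => hca (smul_left_cancel g (e.trans hga.symm))⟩
  obtain ⟨j, hj⟩ := horb _ hgc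
  have hk : ((z : G) ^ j)⁻¹ * g = 1 := by
    refine hs.eq_one_of_card (by omega : 4 ≤ O.card) (hcent _ ?_ ?_)
    · exact ((((Commute.refl (z : G)).pow_left j).inv_left).mul_left hgz).eq
    · rw [mul_smul, ← hj, inv_smul_smul]
  have : g • a = a := by rw [← inv_mul_eq_one.mp hk, (hmemH.mp (H.pow_mem z.2 j)).1]
  exact hab (this.symm.trans hga)

/-- Jordan's theorem for sharply 4-transitive groups. -/
theorem sharp_four [Finite G] (hn : 4 ≤ Fintype.card α) :
    Fintype.card α = 4 ∨ Fintype.card α = 5 ∨ Fintype.card α = 6 ∨ Fintype.card α = 11 := by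
  obtain ⟨he, hle⟩ := degree_bound h4 hs hn
  have h7 := degree_ne_add_two h4 hs (p := 5) (hp := ⟨by norm_num⟩) le_rfl
  have h9 := degree_ne_add_two h4 hs (p := 7) (hp := ⟨by norm_num⟩) (by norm_num)
  rcases Nat.even_or_odd (Fintype.card α) with h | h
  · have := he h; omega
  · obtain ⟨k, hk⟩ := h; omega

end

end Cfsg.Agent.Lib.SharplyK
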