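import Cfsg.Agent.Lib.SharplyK.Four
import Cfsg.Agent.S4220

/-!
Degrees of sharply `k`-transitive groups, `k ≥ 4`.
-/

set_option autoImplicit false
set_option linter.unusedSectionVars false

namespace Cfsg.Agent.Lib.SharplyK

open MulAction Finset

universe u v

variable {G : Type u} [Group G] {α : Type v} [MulAction G α]

theorem isSharp_of_stabilizer {k : ℕ} (h : ∀ x : Fin k ↪ α, stabilizer G x = ⊥) : IsSharp G α k := by
  intro g l hl hk hfix
  let x : Fin k ↪ α := ⟨fun i => l.get (i.cast hk.symm), fun i j hij => by
    simpa using hl.injective_get hij⟩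
  have hg : g ∈ stabilizer G x := mem_stabilizer_iff.mpr (Function.Embedding.ext fun i =>
    hfix _ (List.get_mem l _))
  rwa [h x, Subgroup.mem_bot] at hg

theorem IsSharp.ofStabilizer {k : ℕ} (h : IsSharp G α (k + 1)) (a : α) :
    IsSharp (stabilizer G a) (SubMulAction.ofStabilizer G a) k := by
  intro g l hl hk hfix
  refine Subtype.ext (h g (a :: l.map Subtype.val) ?_ (by simp [hk]) ?_)
  · refine List.nodup_cons.mpr ⟨?_, hl.map Subtype.val_injective⟩
    simp only [List.mem_map, not_exists, not_and]
    exact fun x _ hx => x.2 hx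
  · intro x hx
    rcases List.mem_cons.mp hx with rfl | hx
    · exact g.2
    · obtain ⟨y, hy, rfl⟩ := List.mem_map.mp hx
      exact congrArg Subtype.val (hfix y hy)

variable [Fintype α]

theorem pretransitive_stabilizer {k : ℕ} (hk : 0 < k) (hn : k + 1 ≤ Fintype.card α)
    (h : IsMultiplyPretransitive G α (k + 1)) (a : α) :
    IsMultiplyPretransitive (stabilizer G a) (SubMulAction.ofStabilizer G a) k := by
  have h1 : IsMultiplyPretransitive G α 1 :=
    isMultiplyPretransitive_of_le (n := k + 1) (by omega) (by rw [Nat.card_eq_fintype_card]; exact hn)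
  haveI : IsPretransitive G α := is_one_pretransitive_iff.mp h1
  exact SubMulAction.ofStabilizer.isMultiplyPretransitive.mp h

theorem card_ofStabilizer (a : α) [Fintype (SubMulAction.ofStabilizer G a)] :
    Fintype.card (SubMulAction.ofStabilizer G a) = Fintype.card α - 1 := by
  classical
  rw [← Nat.card_eq_fintype_card]
  show Nat.card {x : α // x ∈ SubMulAction.ofStabilizer G a} = _
  rw [Nat.card_congr (Equiv.subtypeEquivRight fun x => SubMulAction.mem_ofStabilizer_iff G a),
    Nat.card_eq_fintype_card, Fintype.card_subtype_compl, Fintype.card_subtype_eq]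

theorem sharp_five [Finite G] (h5 : IsMultiplyPretransitive G α 5) (hs : IsSharp G α 5)
    (hn : 5 ≤ Fintype.card α) :
    Fintype.card α = 5 ∨ Fintype.card α = 6 ∨ Fintype.card α = 7 ∨ Fintype.card α = 12 := by
  classical
  obtain ⟨a⟩ : Nonempty α := Fintype.card_pos_iff.mp (by omega)
  have := sharp_four (pretransitive_stabilizer (k := 4) (by omega) hn h5 a) (hs.ofStabilizer a)
    (by rw [card_ofStabilizer]; omega)
  rw [card_ofStabilizer] at this
  omega

theorem not_six_thirteen [Finite G] (h6 : IsMultiplyPretransitive G α 6) (hs : IsSharp G α 6) :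
    Fintype.card α ≠ 13 := by
  classical
  intro hn
  haveI := Fintype.ofFinite G
  set G' := (MulAction.toPermHom G α).range with hG'
  have hG4 : IsMultiplyPretransitive G' α (3 + 1) := by
    haveI := isMultiplyPretransitive_of_le (G := G) (α := α) (m := 4) (n := 6) (by omega)
      (by rw [Nat.card_eq_fintype_card]; omega)
    refine ⟨fun x y => ?_⟩
    obtain ⟨g, hg⟩ := exists_smul_eq G x y
    exact ⟨⟨_, ⟨g, rfl⟩⟩, hg⟩
  have hle : alternatingGroup α ≤ G' := Cfsg.Agent.S4220.result G' (k := 2) (p := 5) (r := 3)
    (by norm_num) (by rw [hn]) (by norm_num) (by norm_num) (by norm_num) (by norm_num) hG4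
  haveI : Nontrivial α := Fintype.one_lt_card_iff_nontrivial.mp (by omega)
  have h1 : Fintype.card G ≤ Fintype.card (Fin 6 ↪ α) := by
    let x : Fin 6 ↪ α := ((Fin.castLEEmb (by omega : 6 ≤ Fintype.card α))).trans
      (Fintype.equivFin α).symm.toEmbedding
    refine Fintype.card_le_of_injective (fun g : G => g • x) fun g g' e => ?_
    refine (inv_mul_eq_one.mp (hs (g'⁻¹ * g) (List.ofFn x) ?_ (List.length_ofFn) ?_)).symm
    · exact List.nodup_ofFn.mpr x.injective
    · intro y hy
      obtain ⟨i, rfl⟩ := List.mem_ofFn.mp hy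
      rw [mul_smul, inv_smul_eq_iff]
      exact congrArg (fun e : Fin 6 ↪ α => e i) e
  have h2 : Nat.card (alternatingGroup α) ≤ Nat.card G :=
    (Subgroup.card_le_of_le hle).trans
      (Nat.card_le_card_of_surjective _ (MulAction.toPermHom G α).rangeRestrict_surjective)
  rw [nat_card_alternatingGroup, Nat.card_eq_fintype_card (α := α), hn, Nat.card_eq_fintype_card] at h2
  rw [Fintype.card_embedding_eq, hn, Fintype.card_fin] at h1
  norm_num [Nat.factorial, Nat.descFactorial] at h1 h2
  omega

theorem sharp_large (k : ℕ) (hk : 6 ≤ k) : ∀ {G : Type u} [Group G] [Finite G] {α : Type v} [Fintype α]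
    [MulAction G α], IsMultiplyPretransitive G α k → IsSharp G α k → k ≤ Fintype.card α →
    Fintype.card α = k ∨ Fintype.card α = k + 1 ∨ Fintype.card α = k + 2 := by
  induction k, hk using Nat.le_induction with
  | base =>
    intro G _ _ α _ _ h hs hn
    classical
    obtain ⟨a⟩ : Nonempty α := Fintype.card_pos_iff.mp (by omega)
    have := sharp_five (pretransitive_stabilizer (k := 5) (by omega) hn h a) (hs.ofStabilizer a)
      (by rw [card_ofStabilizer]; omega)
    rw [card_ofStabilizer] at this
    have := not_six_thirteen h hs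
    omega
  | succ k hk ih =>
    intro G _ _ α _ _ h hs hn
    classical
    obtain ⟨a⟩ : Nonempty α := Fintype.card_pos_iff.mp (by omega)
    have := ih (pretransitive_stabilizer (k := k) (by omega) hn h a) (hs.ofStabilizer a)
      (by rw [card_ofStabilizer]; omega)
    rw [card_ofStabilizer] at this
    omega

end Cfsg.Agent.Lib.SharplyK
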